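import Groth.Agent.H17.Ample.GenAffine
import Groth.Agent.H11Ample.ToPn
import Groth.Agent.H11Ample.Global
import Groth.Agent.H10Coh.Pn.Results
import Groth.Agent.H10Coh.Stab.TwistInt
import Groth.Agent.S1697
import Groth.Agent.S10962
import Groth.Agent.S4715
import Groth.Agent.S10829
import Groth.Agent.H27Weil.Geometry

/-!
# Morphisms from projective space to a smaller projective space are constant
-/

set_option autoImplicit false
set_option linter.style.haveILetI false

noncomputable section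

universe u

open CategoryTheory CategoryTheory.Limits AlgebraicGeometry Opposite TopologicalSpace
open Groth.Agent.H11Tilde Groth.Agent.H11Ample

namespace Groth.Agent.H11PnConst

variable (k : Type u) [Field k] (n m : ℕ) (f : CohB1.ProjSpace n k ⟶ CohB1.ProjSpace m k)

/-- The pulled back `O(1)`. -/
abbrev pb : (CohB1.ProjSpace n k).Modules :=
  (Scheme.Modules.pullback f).obj (Twist.twistProjSpace m k 1)

theorem gen_sec (i : Fin (m + 1)) :
    gen (pb k n m f) (pullTop f (L := Twist.twistProjSpace m k 1) (ProjUP.coord m k i)) =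
      f ⁻¹ᵁ Proj.basicOpen (CohB1.polyGrading m k) (MvPolynomial.X i) := by
  have h := gen_smul_pullSect f (isInvertible_twist (n := m) (R := k)) (ProjUP.coord m k i) (c := 1) isUnit_one
  rw [one_smul] at h
  rw [← gen_coord]
  exact h

theorem isGloballyGenerated_pb : Curv2.IsGloballyGenerated (pb k n m f) := by
  let v : ULift.{u} (Fin (m + 1)) → Γ(pb k n m f, ⊤) := fun i =>
    pullTop f (L := Twist.twistProjSpace m k 1) (ProjUP.coord m k i.down)
  refine isGloballyGenerated_of_locally _ v fun W t x hx => ?_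
  obtain ⟨i, hi⟩ := exists_mem_basicOpen_X (n := m) (R := k) (f x)
  let G := gen (pb k n m f) (v ⟨i⟩)
  have hxG : x ∈ G := (gen_sec k n m f i).ge hi
  refine ⟨W ⊓ G, inf_le_left, ⟨hx, hxG⟩, ?_⟩
  obtain ⟨c, hc⟩ := exists_coeff ((isGen_gen (v ⟨i⟩)).res (inf_le_right : W ⊓ G ≤ G))
    ((pb k n m f).presheaf.map (homOfLE (inf_le_left : W ⊓ G ≤ W)).op t)
  rw [H10Coh.mres_mres] at hc
  rw [hc]
  exact Submodule.smul_mem _ c (Submodule.subset_span ⟨⟨i⟩, rfl⟩)

theorem isProper_of_over (hf : f ≫ CohB1.ProjSpace.toSpec m k = CohB1.ProjSpace.toSpec n k) : IsProper f := by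
  haveI : IsProper (f ≫ CohB1.ProjSpace.toSpec m k) := by
    rw [hf]; infer_instance
  exact IsProper.of_comp f (CohB1.ProjSpace.toSpec m k)

theorem not_isAmple (hf : f ≫ CohB1.ProjSpace.toSpec m k = CohB1.ProjSpace.toSpec n k) (hmn : m < n) :
    ¬ CohB1.IsAmple (pb k n m f) := by
  intro hA
  haveI := isProper_of_over k n m f hf
  haveI : IsAffineHom f := by
    refine isAffineHom_of_forall_exists_isAffineOpen _ fun y => ?_
    obtain ⟨i, hi⟩ := exists_mem_basicOpen_X (n := m) (R := k) y
    refine ⟨_, hi, Proj.isAffineOpen_basicOpen (CohB1.polyGrading m k) _ (X_mem i) one_pos, ?_⟩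
    rw [← gen_sec]
    exact H17.GenAffine.isAffineOpen_gen (CohB1.ProjSpace.toSpec n k) hA _
  haveI : IsFinite f := (IsFinite.iff_isProper_and_isAffineHom).2 ⟨inferInstance, inferInstance⟩
  haveI := LocallyOfFiniteType.isLocallyNoetherian (CohB1.ProjSpace.toSpec n k)
  haveI := LocallyOfFiniteType.isLocallyNoetherian (CohB1.ProjSpace.toSpec m k)
  obtain ⟨h1, h2⟩ := Groth.Agent.S4715.result f
  have h := h1.trans h2
  rw [Groth.Agent.S10829.result, Groth.Agent.S10829.result] at h
  exact absurd (by exact_mod_cast h : n ≤ m) (by omega)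

/-- A morphism over `k` to projective space with trivial `O(1)` is constant. -/
theorem const_of_trivial
    (φ : pb k n m f ≅ Coh.structureModule (CohB1.ProjSpace n k)) :
    ∃ q : Spec (CommRingCat.of k) ⟶ CohB1.ProjSpace m k, f = CohB1.ProjSpace.toSpec n k ≫ q := by
  haveI hiso : IsIso (CohB1.ProjSpace.toSpec n k).appTop := H10Coh.Pn.isIso_toS_appTop n k
  let P := CohB1.ProjSpace n k
  have hfield : ∀ r : Γ(P, ⊤), r = 0 ∨ IsUnit r := fun r => by
    obtain ⟨c, rfl⟩ := (ConcreteCategory.bijective_of_isIso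
      ((Scheme.ΓSpecIso (CommRingCat.of k)).inv ≫ (CohB1.ProjSpace.toSpec n k).appTop)).2 r
    rcases eq_or_ne (show k from c) 0 with h | h
    · exact Or.inl (by rw [show c = 0 from h, map_zero])
    · exact Or.inr ((IsUnit.mk0 _ h).map _)
  obtain ⟨i, hi⟩ : ∃ i : Fin (m + 1), f ⁻¹ᵁ Proj.basicOpen (CohB1.polyGrading m k) (MvPolynomial.X i) = ⊤ := by
    obtain ⟨x⟩ : Nonempty P := by
      by_contra hne
      rw [not_nonempty_iff] at hne
      have h := Groth.Agent.S10829.result k n
      haveI : IsEmpty (IrreducibleCloseds P) := ⟨fun Z => hne.elim Z.2.nonempty.some⟩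
      rw [topologicalKrullDim, Order.krullDim_eq_bot] at h
      exact WithBot.bot_ne_coe h
    obtain ⟨i, hi⟩ := exists_mem_basicOpen_X (n := m) (R := k) (f x)
    refine ⟨i, ?_⟩
    let v := pullTop f (L := Twist.twistProjSpace m k 1) (ProjUP.coord m k i)
    let r : Γ(P, ⊤) := φ.hom.app ⊤ v
    have hr : gen (Coh.structureModule P) (show Γ(Coh.structureModule P, ⊤) from r) = P.basicOpen r := by
      have h1 := gen_inf_eq_basicOpen (isGen_one (⊤ : P.Opens)) (show Γ(Coh.structureModule P, ⊤) from r) r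
        (by rw [H10Coh.mres_self, smul_one_eq])
      rwa [inf_top_eq] at h1
    have hg : gen (pb k n m f) v = P.basicOpen r := by
      rw [← hr]; exact (gen_iso φ.hom v).symm
    rw [← gen_sec, hg]
    rcases hfield r with h | h
    · exfalso
      have hx : x ∈ P.basicOpen r := hg.le ((gen_sec k n m f i).ge hi)
      rw [h, Scheme.basicOpen_zero] at hx
      exact hx
    · exact Scheme.basicOpen_of_isUnit P h
  let D := Proj.basicOpen (CohB1.polyGrading m k) (MvPolynomial.X i)
  haveI : IsAffine D.toScheme := Proj.isAffineOpen_basicOpen (CohB1.polyGrading m k) _ (X_mem i) one_pos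
  let g : P ⟶ D.toScheme := IsOpenImmersion.lift D.ι f (by
    rintro _ ⟨x, rfl⟩
    rw [show Set.range D.ι = (D : Set _) from D.range_ι]
    exact hi.ge (trivial : x ∈ (⊤ : P.Opens)))
  have hg : g ≫ D.ι = f := IsOpenImmersion.lift_fac _ _ _
  haveI : IsIso (Spec.map ((Scheme.ΓSpecIso (CommRingCat.of k)).inv ≫ (CohB1.ProjSpace.toSpec n k).appTop)) :=
    inferInstance
  have htoSpec : CohB1.ProjSpace.toSpec n k =
      P.toSpecΓ ≫ Spec.map ((Scheme.ΓSpecIso (CommRingCat.of k)).inv ≫ (CohB1.ProjSpace.toSpec n k).appTop) := by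
    rw [Spec.map_comp, ← Scheme.toSpecΓ_naturality_assoc, toSpecΓ_SpecMap_ΓSpecIso_inv, Category.comp_id]
  refine ⟨inv (Spec.map ((Scheme.ΓSpecIso (CommRingCat.of k)).inv ≫ (CohB1.ProjSpace.toSpec n k).appTop)) ≫
    Spec.map g.appTop ≫ D.toScheme.isoSpec.inv ≫ D.ι, ?_⟩
  refine hg.symm.trans (Eq.trans ?_ (congrArg (· ≫ _) htoSpec).symm)
  erw [Category.assoc, IsIso.hom_inv_id_assoc]
  erw [← Scheme.toSpecΓ_naturality_assoc]
  rw [show D.toScheme.toSpecΓ = D.toScheme.isoSpec.hom from rfl]
  erw [Iso.hom_inv_id_assoc]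

theorem result (hmn : m < n) (hf : f ≫ CohB1.ProjSpace.toSpec m k = CohB1.ProjSpace.toSpec n k) :
    ∃ q : Spec (CommRingCat.of k) ⟶ CohB1.ProjSpace m k, f = CohB1.ProjSpace.toSpec n k ≫ q := by
  haveI := compactSpace_projSpace n k
  haveI : QuasiSeparatedSpace (CohB1.ProjSpace n k) :=
    quasiSeparatedSpace_of_isAmple ((Groth.Agent.S10962.result k n (by omega) 1).2 one_pos)
  have hT := H10Coh.Stab.isTwistFamily_projSpace n k
  have hL : PicF.IsInvertible (pb k n m f) := isInvertible_pullback f (isInvertible_twist (n := m) (R := k))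
  obtain ⟨d, ⟨e⟩⟩ := Groth.Agent.S1697.result k n (pb k n m f) hL
  rcases lt_trichotomy 0 d with hd | hd | hd
  · exact absurd (isAmple_of_iso e.symm ((Groth.Agent.S10962.result k n (by omega) d).2 hd))
      (not_isAmple k n m f hf hmn)
  · subst hd
    obtain ⟨e₀⟩ := hT.zero
    exact const_of_trivial k n m f (e ≪≫ e₀)
  · exfalso
    have hA := isAmple_tensor ((Groth.Agent.S10962.result k n (by omega) (-d)).2 (by omega)) (hT.inv d)
      (isGloballyGenerated_of_iso e (isGloballyGenerated_pb k n m f))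
    obtain ⟨ea⟩ := hT.add (-d) d
    have h0 := isAmple_of_iso (ea ≪≫ eqToIso (congrArg _ (neg_add_cancel d))) hA
    exact absurd ((Groth.Agent.S10962.result k n (by omega) 0).1 h0) (lt_irrefl 0)

end Groth.Agent.H11PnConst
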